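import Mathlib
import Groth.Prelude.Def_NonAbH1

/-!
The torsor of a Čech cocycle.
-/

set_option autoImplicit false

universe w' w v u

open CategoryTheory Opposite

namespace Groth.CechTorsor

variable {C : Type u} [Category.{v} C] {J : GrothendieckTopology C} (G : Sheaf J GrpCat.{w})

/-- The homomorphism from the infinite cyclic group with the given image of the generator. -/
def point {X : Cᵒᵖ} (g : G.obj.obj X) :
    GrpCat.of (ULift.{w} (Multiplicative ℤ)) ⟶ G.obj.obj X :=
  GrpCat.ofHom ((zpowersHom (G.obj.obj X) g).comp MulEquiv.ulift.toMonoidHom)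

theorem point_one {X : Cᵒᵖ} (g : G.obj.obj X) :
    point G g (ULift.up (Multiplicative.ofAdd 1)) = g := by
  simp [point]
  exact zpow_one g

theorem point_map {X Y : Cᵒᵖ} (f : X ⟶ Y) (g : G.obj.obj X) :
    point G g ≫ G.obj.map f = point G (G.obj.map f g) := by
  ext ⟨n⟩
  exact map_zpow (G.obj.map f).hom g n.toAdd

theorem exists_glue {X : C} {S : Sieve X} (hS : S ∈ J X)
    (x : ∀ ⦃Y : C⦄ (f : Y ⟶ X), S f → G.obj.obj (op Y))
    (hx : ∀ ⦃Y Z : C⦄ (f : Y ⟶ X) (g : Z ⟶ Y) (hf : S f),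
      G.obj.map g.op (x f hf) = x (g ≫ f) (S.downward_closed hf g)) :
    ∃ y : G.obj.obj (op X), ∀ ⦃Y : C⦄ (f : Y ⟶ X) (hf : S f), G.obj.map f.op y = x f hf := by
  let xx : Presieve.FamilyOfElements
      (G.obj ⋙ coyoneda.obj (op (GrpCat.of (ULift.{w} (Multiplicative ℤ))))) S.arrows :=
    fun Y f hf => point G (x f hf)
  have hc : xx.Compatible := by
    rw [Presieve.compatible_iff_sieveCompatible]
    intro Y Z f g hf
    exact ((point_map G g.op _).trans (by rw [hx f g hf])).symm
  have sh := G.property (GrpCat.of (ULift.{w} (Multiplicative ℤ))) S hS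
  let y : GrpCat.of (ULift.{w} (Multiplicative ℤ)) ⟶ G.obj.obj (op X) := sh.amalgamate xx hc
  refine ⟨y (ULift.up (Multiplicative.ofAdd 1)), fun Y f hf => ?_⟩
  have h : y ≫ G.obj.map f.op = point G (x f hf) := sh.valid_glue hc f hf
  exact (ConcreteCategory.congr_hom h _).trans (point_one G _)

theorem ext_of_locally {X : C} {S : Sieve X} (hS : S ∈ J X) (a b : G.obj.obj (op X))
    (h : ∀ ⦃Y : C⦄ (f : Y ⟶ X), S f → G.obj.map f.op a = G.obj.map f.op b) : a = b := by
  have := (G.property (GrpCat.of (ULift.{w} (Multiplicative ℤ))) S hS).isSeparatedFor.ext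
    (t₁ := point G a) (t₂ := point G b) fun Y f hf => by
      show point G a ≫ G.obj.map f.op = point G b ≫ G.obj.map f.op
      rw [point_map, point_map, h f hf]
  rw [← point_one G a, this, point_one]

variable {I : Type w'} {U : I → C} (γ : PresheafOfGroups.OneCocycle G.obj U)

/-- Sections of the torsor of a cocycle: coordinates in all charts. -/
@[ext]
structure Fam (V : Cᵒᵖ) where
  /-- the coordinate -/
  val : ∀ ⦃W : C⦄ (_ : W ⟶ V.unop) (i : I) (_ : W ⟶ U i), G.obj.obj (op W)
  nat : ∀ ⦃W W' : C⦄ (φ : W' ⟶ W) (a : W ⟶ V.unop) (i : I) (b : W ⟶ U i),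
    G.obj.map φ.op (val a i b) = val (φ ≫ a) i (φ ≫ b)
  rel : ∀ ⦃W : C⦄ (a : W ⟶ V.unop) (i : I) (b : W ⟶ U i) (j : I) (c : W ⟶ U j),
    val a i b * γ.ev i j b c = val a j c

variable {G γ}

/-- Restriction. -/
def Fam.res {V V' : Cᵒᵖ} (f : V ⟶ V') (p : Fam G γ V) : Fam G γ V' where
  val W a i b := p.val (a ≫ f.unop) i b
  nat W W' φ a i b := by rw [p.nat, Category.assoc]
  rel W a i b j c := p.rel _ i b j c

theorem map_comp_op {X Y Z : C} (f : X ⟶ Y) (g : Y ⟶ Z) (x : G.obj.obj (op Z)) :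
    G.obj.map f.op (G.obj.map g.op x) = G.obj.map (f ≫ g).op x := by
  rw [← ConcreteCategory.comp_apply, ← G.obj.map_comp, ← op_comp]

/-- The action. -/
def Fam.act {V : Cᵒᵖ} (g : G.obj.obj V) (p : Fam G γ V) : Fam G γ V where
  val W a i b := G.obj.map a.op g * p.val a i b
  nat W W' φ a i b := by rw [map_mul, p.nat]; congr 1; exact map_comp_op φ a g
  rel W a i b j c := by rw [mul_assoc, p.rel]

theorem Fam.act_res {V V' : Cᵒᵖ} (f : V ⟶ V') (g : G.obj.obj V) (p : Fam G γ V) :
    (p.act g).res f = (p.res f).act (G.obj.map f g) := by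
  ext W a i b
  show G.obj.map (a ≫ f.unop).op g * _ = G.obj.map a.op (G.obj.map f g) * _
  rw [op_comp, Quiver.Hom.op_unop, G.obj.map_comp]
  rfl

theorem Fam.existsUnique_act (hU : J.CoversTop U) {V : Cᵒᵖ} (p q : Fam G γ V) :
    ∃! g : G.obj.obj V, p.act g = q := by
  let x : ∀ ⦃Y : C⦄ (f : Y ⟶ V.unop), Sieve.ofObjects U V.unop f → G.obj.obj (op Y) :=
    fun Y f hf => q.val f hf.choose hf.choose_spec.some * (p.val f hf.choose hf.choose_spec.some)⁻¹
  have key : ∀ ⦃Y : C⦄ (f : Y ⟶ V.unop) (hf : Sieve.ofObjects U V.unop f) (i : I) (b : Y ⟶ U i),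
      x f hf = q.val f i b * (p.val f i b)⁻¹ := fun Y f hf i b => by
    simp only [x]
    rw [← q.rel f _ hf.choose_spec.some i b, ← p.rel f _ hf.choose_spec.some i b]
    group
  obtain ⟨g, hg⟩ := exists_glue G (hU V.unop) x fun Y Z f φ hf => by
    rw [key f hf hf.choose hf.choose_spec.some,
      key (φ ≫ f) _ hf.choose (φ ≫ hf.choose_spec.some), map_mul, map_inv, q.nat, p.nat]
  refine ⟨g, ?_, fun g' hg' => ext_of_locally G (hU V.unop) _ _ fun Y f hf => ?_⟩
  · ext W a i b
    show G.obj.map a.op g * _ = _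
    have hm : Sieve.ofObjects U V.unop a := ⟨i, ⟨b⟩⟩
    rw [(hg a hm).trans (key a hm i b), inv_mul_cancel_right]
  · rw [hg f hf, key f hf hf.choose hf.choose_spec.some, ← hg']
    exact (mul_inv_cancel_right _ _).symm

theorem small_fam (hU : J.CoversTop U) (V : Cᵒᵖ) : Small.{w} (Fam G γ V) := by
  rcases isEmpty_or_nonempty (Fam G γ V) with h | ⟨⟨p₀⟩⟩
  · infer_instance
  · refine small_of_injective (f := fun p => (Fam.existsUnique_act hU p₀ p).choose) fun p q h => ?_
    exact (Fam.existsUnique_act hU p₀ p).choose_spec.1.symm.trans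
      ((congrArg (fun g => p₀.act g) h).trans (Fam.existsUnique_act hU p₀ q).choose_spec.1)

theorem exists_amalgamation {X : C} {S : Sieve X} (hS : S ∈ J X)
    (x : ∀ ⦃Y : C⦄ (f : Y ⟶ X), S f → Fam G γ (op Y))
    (hx : ∀ ⦃Y Z : C⦄ (f : Y ⟶ X) (g : Z ⟶ Y) (hf : S f),
      (x f hf).res g.op = x (g ≫ f) (S.downward_closed hf g)) :
    ∃! p : Fam G γ (op X), ∀ ⦃Y : C⦄ (f : Y ⟶ X) (hf : S f), p.res f.op = x f hf := by
  have hx' : ∀ ⦃Y : C⦄ {f f' : Y ⟶ X} (e : f = f') (hf : S f) (hf' : S f'), x f hf = x f' hf' := by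
    rintro Y f _ rfl hf hf'; rfl
  have hv : ∀ ⦃Y : C⦄ {f f' : Y ⟶ X} (_ : f = f') (hf : S f) (hf' : S f') (i : I) {b b' : Y ⟶ U i}
      (_ : b = b'), (x f hf).val (𝟙 Y) i b = (x f' hf').val (𝟙 Y) i b' := by
    rintro Y f _ rfl hf hf' i b _ rfl; rfl
  have glue : ∀ (W : C) (a : W ⟶ X) (i : I) (b : W ⟶ U i), ∃ y : G.obj.obj (op W),
      ∀ ⦃W' : C⦄ (φ : W' ⟶ W) (hφ : S (φ ≫ a)),
        G.obj.map φ.op y = (x (φ ≫ a) hφ).val (𝟙 W') i (φ ≫ b) := fun W a i b =>
    exists_glue G (J.pullback_stable a hS) (fun W' φ hφ => (x (φ ≫ a) hφ).val (𝟙 W') i (φ ≫ b))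
      fun Y Z f g hf => by
        rw [(x (f ≫ a) hf).nat]
        have h1 := congrArg (fun q : Fam G γ (op Z) => q.val (𝟙 Z) i (g ≫ f ≫ b)) (hx (f ≫ a) g hf)
        simp only [Fam.res, Quiver.Hom.unop_op, Category.id_comp] at h1
        rw [Category.comp_id, h1]
        exact hv (Category.assoc g f a).symm _ _ i (Category.assoc g f b).symm
  choose y hy using glue
  let p : Fam G γ (op X) :=
    { val := fun W a i b => y W a i b
      nat := fun W W' φ a i b => ext_of_locally G (J.pullback_stable (φ ≫ a) hS) _ _ fun Z ψ hψ => by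
        rw [map_comp_op, hy W a i b (ψ ≫ φ) (by rw [Category.assoc]; exact hψ), hy W' (φ ≫ a) i (φ ≫ b) ψ hψ]
        exact hv (Category.assoc ψ φ a) _ _ i (Category.assoc ψ φ b)
      rel := fun W a i b j c => ext_of_locally G (J.pullback_stable a hS) _ _ fun Z ψ hψ => by
        rw [map_mul, hy W a i b ψ hψ, hy W a j c ψ hψ, γ.ev_precomp]
        exact (x (ψ ≫ a) hψ).rel _ i (ψ ≫ b) j (ψ ≫ c) }
  refine ⟨p, fun Y f hf => ?_, fun q hq => ?_⟩
  · ext W a i b
    have h := hy W (a ≫ f) i b (𝟙 W) (by rw [Category.id_comp]; exact S.downward_closed hf a)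
    rw [op_id, G.obj.map_id] at h
    refine (h : y W (a ≫ f) i b = _).trans ?_
    rw [hv (Category.id_comp (a ≫ f)) _ (S.downward_closed hf a) i (Category.id_comp b), ← hx f a hf]
    simp [Fam.res]
  · ext W a i b
    refine ext_of_locally G (J.pullback_stable a hS) _ _ fun Z ψ hψ => ?_
    show _ = G.obj.map ψ.op (y W a i b)
    rw [q.nat, hy W a i b ψ hψ, ← hq (ψ ≫ a) hψ]
    simp [Fam.res]

variable (γ)

/-- The section attached to a member of the family. -/
def Fam.base (i : I) : Fam G γ (op (U i)) where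
  val W a j b := γ.ev i j a b
  nat W W' φ a j b := γ.ev_precomp i j φ a b
  rel W a j b k c := γ.ev_trans i j k a b c

/-- The torsor of a cocycle. -/
theorem exists_torsor (hU : J.CoversTop U) :
    ∃ P : NonAbH1.Torsor G, P.TrivialisedBy U ∧ P.HasCechClass U γ.class := by
  haveI := fun V => small_fam (γ := γ) hU V
  let F : Cᵒᵖ ⥤ Type w :=
    { obj := fun V => Shrink.{w} (Fam G γ V)
      map := fun f => ↾fun p => equivShrink _ (((equivShrink _).symm p).res f)
      map_id := fun V => by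
        ext p
        simp [Fam.res]
      map_comp := fun f g => by
        ext p
        simp [Fam.res] }
  have hF : Presheaf.IsSheaf J F := by
    rw [isSheaf_iff_isSheaf_of_type]
    intro X S hS x hx
    rw [Presieve.compatible_iff_sieveCompatible] at hx
    obtain ⟨p, hp, huniq⟩ := exists_amalgamation hS
      (fun Y f hf => (equivShrink (Fam G γ (op Y))).symm (x f hf)) fun Y Z f g hf => by
        have := congrArg (equivShrink (Fam G γ (op Z))).symm (hx f g hf)
        exact (this.trans (Equiv.symm_apply_apply _ _)).symm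
    refine ⟨equivShrink (Fam G γ (op X)) p, fun Y f hf => ?_, fun q hq => ?_⟩
    · apply (equivShrink (Fam G γ (op Y))).symm.injective
      simp [F, hp f hf]
    · rw [← huniq ((equivShrink (Fam G γ (op X))).symm q) fun Y f hf => ?_, Equiv.apply_symm_apply]
      have := congrArg (equivShrink (Fam G γ (op Y))).symm (hq f hf)
      simpa [F] using this
  let P : NonAbH1.GSheaf G :=
    { P := ⟨F, hF⟩
      smul := fun {V} g p => equivShrink _ (((equivShrink (Fam G γ V)).symm p).act g)
      one_smul := fun {V} p => by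
        apply (equivShrink (Fam G γ V)).symm.injective
        rw [Equiv.symm_apply_apply]
        ext W a i b
        simp [Fam.act]
      mul_smul := fun {V} g h p => by
        apply (equivShrink (Fam G γ V)).symm.injective
        simp only [Equiv.symm_apply_apply]
        ext W a i b
        simp [Fam.act, mul_assoc]
      map_smul := fun {V V'} f g p => by
        apply (equivShrink (Fam G γ V')).symm.injective
        simp [F, Fam.act_res] }
  have base : ∀ i, Nonempty (P.P.obj.obj (op (U i))) := fun i => ⟨equivShrink _ (Fam.base γ i)⟩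
  refine ⟨⟨P, fun V p q => ?_, fun V => ⟨_, hU V, fun W a ⟨i, ⟨b⟩⟩ => ?_⟩⟩, base,
    fun i => equivShrink _ (Fam.base γ i), γ, fun i j T a b => ?_, rfl⟩
  · obtain ⟨g, hg, hu⟩ := Fam.existsUnique_act hU ((equivShrink (Fam G γ V)).symm p)
      ((equivShrink (Fam G γ V)).symm q)
    refine ⟨g, ?_, fun g' hg' => hu g' ?_⟩
    · show equivShrink _ _ = q
      rw [hg, Equiv.apply_symm_apply]
    · rw [← hg']
      exact (Equiv.symm_apply_apply _ _).symm
  · exact ⟨P.P.obj.map b.op (base i).some⟩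
  · apply (equivShrink (Fam G γ (op T))).symm.injective
    simp only [P, F]
    simp
    ext W c k d
    simp [Fam.act, Fam.res, Fam.base]
    exact γ.ev_trans i j k _ _ _

end Groth.CechTorsor
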