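import Mathlib
import Groth.Prelude.Def_NonAbH1

/-!
Čech classes of torsors: existence, uniqueness, and the torsor is determined by a class.
-/

set_option autoImplicit false

universe w' w v u

open CategoryTheory Opposite

namespace Groth.CechTorsor

variable {C : Type u} [Category.{v} C] {J : GrothendieckTopology C} {G : Sheaf J GrpCat.{w}}
  {I : Type w'} {U : I → C}

theorem map_comp_op' (P : Cᵒᵖ ⥤ Type w) {X Y Z : C} (f : X ⟶ Y) (g : Y ⟶ Z) (x : P.obj (op Z)) :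
    P.map f.op (P.map g.op x) = P.map (f ≫ g).op x := by
  rw [← ConcreteCategory.comp_apply, ← P.map_comp, ← op_comp]

theorem map_comp_opG (P : Cᵒᵖ ⥤ GrpCat.{w}) {X Y Z : C} (f : X ⟶ Y) (g : Y ⟶ Z) (x : P.obj (op Z)) :
    P.map f.op (P.map g.op x) = P.map (f ≫ g).op x := by
  rw [← ConcreteCategory.comp_apply, ← P.map_comp, ← op_comp]

theorem smul_left_cancel (P : NonAbH1.GSheaf G) (hP : P.IsPseudoTorsor) {V : Cᵒᵖ}
    {g g' : G.obj.obj V} {p : P.P.obj.obj V} (h : P.smul g p = P.smul g' p) : g = g' :=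
  (hP V p (P.smul g' p)).unique h rfl

theorem inv_smul_smul' (P : NonAbH1.GSheaf G) {V : Cᵒᵖ}
    (g : G.obj.obj V) (p : P.P.obj.obj V) : P.smul g⁻¹ (P.smul g p) = p := by
  rw [← P.mul_smul, inv_mul_cancel, P.one_smul]

/-- A family of sections of a pseudo-torsor cuts out a cocycle. -/
theorem exists_isCocycleOf (P : NonAbH1.GSheaf G) (hP : P.IsPseudoTorsor)
    (s : ∀ i, P.P.obj.obj (op (U i))) :
    ∃ γ : PresheafOfGroups.OneCocycle G.obj U, P.IsCocycleOf U s γ := by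
  choose g hg hu using fun (i j : I) (T : C) (a : T ⟶ U i) (b : T ⟶ U j) =>
    hP (op T) (P.P.obj.map b.op (s j)) (P.P.obj.map a.op (s i))
  refine ⟨{ ev := fun i j T a b => g i j T a b
            ev_precomp := fun i j T T' φ a b => hu i j T (φ ≫ a) (φ ≫ b) _ ?_
            ev_trans := fun i j k T a b c => hu i k T a c _ ?_ }, fun i j T a b => hg i j T a b⟩
  · show P.smul _ _ = _
    rw [← map_comp_op', ← map_comp_op' _ φ a, ← P.map_smul, hg]
  · show P.smul _ _ = _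
    rw [P.mul_smul, hg, hg]

theorem eq_of_isCocycleOf (P : NonAbH1.GSheaf G) (hP : P.IsPseudoTorsor)
    {s s' : ∀ i, P.P.obj.obj (op (U i))} {γ γ' : PresheafOfGroups.OneCocycle G.obj U}
    (h : P.IsCocycleOf U s γ) (h' : P.IsCocycleOf U s' γ') : γ.class = γ'.class := by
  choose α hα using fun i => (hP (op (U i)) (s i) (s' i)).exists
  refine PresheafOfGroups.OneCocycle.IsCohomologous.class_eq ⟨α, fun i j T a b => ?_⟩
  refine smul_left_cancel P hP (p := P.P.obj.map b.op (s j)) ?_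
  rw [P.mul_smul, P.mul_smul, h i j a b, ← P.map_smul, ← P.map_smul, hα, hα, h' i j a b]

/-- A pseudo-torsor with sections over every member has exactly one class. -/
theorem existsUnique_class (P : NonAbH1.GSheaf G) (hP : P.IsPseudoTorsor)
    (hU : P.TrivialisedBy U) : ∃! c : PresheafOfGroups.H1 G.obj U, P.HasCechClass U c := by
  obtain ⟨γ, hγ⟩ := exists_isCocycleOf P hP fun i => (hU i).some
  refine ⟨γ.class, ⟨_, γ, hγ, rfl⟩, ?_⟩
  rintro c ⟨s, γ', hγ', rfl⟩
  exact eq_of_isCocycleOf P hP hγ' hγ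

theorem presieve_isSheaf (P : NonAbH1.GSheaf G) : Presieve.IsSheaf J P.P.obj :=
  (isSheaf_iff_isSheaf_of_type J _).1 P.P.property

/-- An equivariant map of torsors sending `s` to `t`. -/
theorem exists_hom (hU : J.CoversTop U) (P Q : NonAbH1.GSheaf G) (hP : P.IsPseudoTorsor)
    {s : ∀ i, P.P.obj.obj (op (U i))} {t : ∀ i, Q.P.obj.obj (op (U i))}
    {γ : PresheafOfGroups.OneCocycle G.obj U} (hs : P.IsCocycleOf U s γ) (ht : Q.IsCocycleOf U t γ) :
    ∃ φ : P ⟶ Q, ∀ i, φ.hom.hom.app (op (U i)) (s i) = t i := by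
  have loc : ∀ (V : C) (p : P.P.obj.obj (op V)), ∃ q : Q.P.obj.obj (op V),
      ∀ ⦃Y : C⦄ (f : Y ⟶ V) (i : I) (b : Y ⟶ U i) (g : G.obj.obj (op Y)),
        P.smul g (P.P.obj.map b.op (s i)) = P.P.obj.map f.op p →
        Q.P.obj.map f.op q = Q.smul g (Q.P.obj.map b.op (t i)) := fun V p => by
    choose idx hb using fun (Y : C) (f : Y ⟶ V) (hf : Sieve.ofObjects U V f) => hf
    let b := fun Y f hf => (hb Y f hf).some
    choose g hg using fun (Y : C) (f : Y ⟶ V) (hf : Sieve.ofObjects U V f) =>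
      (hP (op Y) (P.P.obj.map (b Y f hf).op (s (idx Y f hf))) (P.P.obj.map f.op p)).exists
    let x : Presieve.FamilyOfElements Q.P.obj (Sieve.ofObjects U V).arrows := fun Y f hf =>
      Q.smul (g Y f hf) (Q.P.obj.map (b Y f hf).op (t (idx Y f hf)))
    have key : ∀ ⦃Y : C⦄ (f : Y ⟶ V) (hf : Sieve.ofObjects U V f) (i : I) (c : Y ⟶ U i)
        (g' : G.obj.obj (op Y)), P.smul g' (P.P.obj.map c.op (s i)) = P.P.obj.map f.op p →
        x f hf = Q.smul g' (Q.P.obj.map c.op (t i)) := fun Y f hf i c g' h => by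
      have e : g Y f hf * γ.ev (idx Y f hf) i (b Y f hf) c = g' := smul_left_cancel P hP
        (p := P.P.obj.map c.op (s i)) (by rw [P.mul_smul, hs, hg, h])
      show Q.smul _ _ = _
      rw [← e, Q.mul_smul, ht]
    have hx : x.Compatible := by
      rw [Presieve.compatible_iff_sieveCompatible]
      intro Y Z f φ hf
      refine (key (φ ≫ f) _ (idx Y f hf) (φ ≫ b Y f hf) (G.obj.map φ.op (g Y f hf)) ?_).trans ?_
      · rw [← map_comp_op', ← P.map_smul, hg, map_comp_op']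
      · show _ = Q.P.obj.map φ.op (Q.smul _ _)
        rw [Q.map_smul, map_comp_op']
    obtain ⟨q, hq, -⟩ := presieve_isSheaf Q _ (hU V) x hx
    exact ⟨q, fun Y f i c g' h => (hq f ⟨i, ⟨c⟩⟩).trans (key f _ i c g' h)⟩
  choose ψ hψ using loc
  have ext : ∀ (V : C) (q q' : Q.P.obj.obj (op V)),
      (∀ ⦃Y : C⦄ (f : Y ⟶ V) (i : I) (_ : Y ⟶ U i), Q.P.obj.map f.op q = Q.P.obj.map f.op q') →
      q = q' := fun V q q' h => by
    refine ((presieve_isSheaf Q).isSeparated _ (hU V)).ext fun Y f hf => ?_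
    obtain ⟨i, ⟨c⟩⟩ := hf
    exact h f i c
  let F : P.P.obj ⟶ Q.P.obj :=
    { app := fun V => ↾fun p => ψ V.unop p
      naturality := fun V W φ => by
        ext p
        refine ext _ _ _ fun Y f i c => ?_
        obtain ⟨g', hg', -⟩ := hP (op Y) (P.P.obj.map c.op (s i)) (P.P.obj.map f.op (P.P.obj.map φ p))
        refine (hψ W.unop _ f i c g' hg').trans ?_
        show _ = Q.P.obj.map f.op (Q.P.obj.map φ.unop.op (ψ V.unop p))
        rw [map_comp_op']
        exact (hψ V.unop p (f ≫ φ.unop) i c g' (hg'.trans (map_comp_op' _ _ _ _))).symm }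
  refine ⟨⟨⟨F⟩, fun {V} h p => ext _ _ _ fun Y f i c => ?_⟩, fun i => ext _ _ _ fun Y f j c => ?_⟩
  · obtain ⟨g', hg', -⟩ := hP (op Y) (P.P.obj.map c.op (s i)) (P.P.obj.map f.op p)
    show Q.P.obj.map f.op (ψ V.unop (P.smul h p)) = Q.P.obj.map f.op (Q.smul h (ψ V.unop p))
    rw [hψ V.unop _ f i c (G.obj.map f.op h * g') (by rw [P.mul_smul, hg', ← P.map_smul])]
    refine Eq.trans ?_ (Q.map_smul f.op h _).symm
    rw [Q.mul_smul, hψ V.unop p f i c g' hg']
  · show Q.P.obj.map f.op (ψ (U i) (s i)) = _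
    rw [hψ (U i) (s i) f j c (γ.ev i j f c) (hs i j f c), ht i j f c]

theorem hom_ext' (hU : J.CoversTop U) (P Q : NonAbH1.GSheaf G) (hP : P.IsPseudoTorsor)
    (s : ∀ i, P.P.obj.obj (op (U i))) (φ φ' : P ⟶ Q)
    (h : ∀ i, φ.hom.hom.app (op (U i)) (s i) = φ'.hom.hom.app (op (U i)) (s i)) : φ = φ' := by
  refine NonAbH1.GSheaf.hom_ext (Sheaf.hom_ext (NatTrans.ext (funext fun V => ?_)))
  ext p
  refine ((presieve_isSheaf Q).isSeparated _ (hU V.unop)).ext fun Y f hf => ?_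
  obtain ⟨i, ⟨c⟩⟩ := hf
  obtain ⟨g, hg, -⟩ := hP (op Y) (P.P.obj.map c.op (s i)) (P.P.obj.map f.op p)
  have e : ∀ ψ : P ⟶ Q, Q.P.obj.map f.op (ψ.hom.hom.app V p) =
      Q.smul g (Q.P.obj.map c.op (ψ.hom.hom.app (op (U i)) (s i))) := fun ψ => by
    rw [← NatTrans.naturality_apply ψ.hom.hom, ← hg, ψ.map_smul,
      ← NatTrans.naturality_apply ψ.hom.hom]
  exact ((e φ).trans (by rw [h])).trans (e φ').symm

/-- Torsors with a common class are isomorphic. -/
theorem nonempty_iso (hU : J.CoversTop U) (P Q : NonAbH1.GSheaf G) (hP : P.IsPseudoTorsor)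
    (hQ : Q.IsPseudoTorsor) {c : PresheafOfGroups.H1 G.obj U} (hPc : P.HasCechClass U c)
    (hQc : Q.HasCechClass U c) : Nonempty (P ≅ Q) := by
  obtain ⟨s, γ, hs, rfl⟩ := hPc
  obtain ⟨t, γ', ht, e⟩ := hQc
  obtain ⟨α, hα⟩ := (PresheafOfGroups.OneCocycle.class_eq_iff _ _).1 e
  let t' : ∀ i, Q.P.obj.obj (op (U i)) := fun i => Q.smul (α i) (t i)
  have ht' : Q.IsCocycleOf U t' γ := fun i j T a b => by
    simp only [t']
    rw [Q.map_smul, Q.map_smul, ← Q.mul_smul, ← hα i j a b, Q.mul_smul, ht i j a b]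
  obtain ⟨φ, hφ⟩ := exists_hom hU P Q hP hs ht'
  obtain ⟨ψ, hψ⟩ := exists_hom hU Q P hQ ht' hs
  exact ⟨⟨φ, ψ, hom_ext' hU P P hP s _ _ fun i => by
      show ψ.hom.hom.app _ (φ.hom.hom.app _ (s i)) = s i
      rw [hφ, hψ],
    hom_ext' hU Q Q hQ t' _ _ fun i => by
      show φ.hom.hom.app _ (ψ.hom.hom.app _ (t' i)) = t' i
      rw [hψ, hφ]⟩⟩

end Groth.CechTorsor
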